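import Cfsg.Agent.OddHalf.Known
import Cfsg.Agent.H790.ExcAbTw
import Mathlib
import Cfsg.Agent.S4458
import Cfsg.Agent.H681.IP.Sec
import Cfsg.Agent.H316.HT.Defs
import Cfsg.Agent.FastGrp
import Cfsg.Agent.Prune
set_option linter.all false

section
prune_inst 0x7f00000000000000000000000000000000000000000000000000000000000000000000000000000000000000000000000000000000000000000000000000000000000000000000000000000000000000003fffffffffffffffffffffffffffbeffbdffffffff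

-- part: H892/HT/Disp
section
set_option linter.all false

/-!
# S4933: the dispatcher (helper892)

`R p K` is the row of the group `K` at the prime `p` (to be instantiated with `Row p K` of `H316/HT/Defs.lean`; all groups in
`Type`).  One field per (family, case); `disp` : all fields give `R p K` for every prime `p` and every non-abelian finite
simple group `K`.

* `Ab p K` : the Sylow `p`-subgroups of `K` are abelian (part (O) of the paper when `P ≠ P ∩ S`);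
* `TwoRows` : `p = 2`;  `OddRows` : `p` odd, groups of Lie type;  `OAb` : part (O), `p` odd, cross characteristic;
* `SporRows` : sporadic groups and the Tits group; `alt` : alternating groups.
-/

set_option autoImplicit false
set_option linter.unusedSectionVars false

open Cfsg Matrix

namespace Cfsg.Agent.H892.HT

/-- the Sylow `p`-subgroups are abelian -/
def Ab (p : ℕ) (K : Type) [Group K] : Prop := ∀ P : Sylow p K, IsMulCommutative P

/-- the row `R p` on a class of simple groups given up to isomorphism -/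
def SpR (R : ℕ → (K : Type) → [Group K] → Prop) (p : ℕ) (I : (K : Type) → [Group K] → Prop) : Prop :=
  ∀ (K : Type) [Group K] [Finite K] [IsSimpleGroup K], ¬ IsMulCommutative K → I K → R p K

/-- `p = 2`, groups of Lie type -/
structure TwoRows (R : ℕ → (K : Type) → [Group K] → Prop) : Prop where
  /-- box 2.own -/
  own : SpR R 2 fun K => IsLieTypeChar 2 K
  /-- box 2.L2 -/
  psl2 : ∀ (F : Type) [Field F] [Fintype F] [IsSimpleGroup (ProjectiveSpecialLinearGroup (Fin 2) F)],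
    Odd (Fintype.card F) → 4 ≤ Fintype.card F → ¬ Ab 2 (ProjectiveSpecialLinearGroup (Fin 2) F) →
    R 2 (ProjectiveSpecialLinearGroup (Fin 2) F)
  /-- box f.O.small, `p = 2` -/
  psl2_ab : ∀ (F : Type) [Field F] [Fintype F] [IsSimpleGroup (ProjectiveSpecialLinearGroup (Fin 2) F)],
    Odd (Fintype.card F) → 4 ≤ Fintype.card F → Ab 2 (ProjectiveSpecialLinearGroup (Fin 2) F) →
    R 2 (ProjectiveSpecialLinearGroup (Fin 2) F)
  /-- box 2.L3.sd -/
  psl3_sd : ∀ (F : Type) [Field F] [Fintype F] [IsSimpleGroup (ProjectiveSpecialLinearGroup (Fin 3) F)],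
    Fintype.card F % 4 = 3 → R 2 (ProjectiveSpecialLinearGroup (Fin 3) F)
  /-- box 2.L3.wr -/
  psl3_wr : ∀ (F : Type) [Field F] [Fintype F] [IsSimpleGroup (ProjectiveSpecialLinearGroup (Fin 3) F)],
    Fintype.card F % 4 = 1 → R 2 (ProjectiveSpecialLinearGroup (Fin 3) F)
  /-- box 2.U3.sd -/
  psu3_sd : ∀ (F : Type) [Field F] [Fintype F] (q : ℕ) [IsSimpleGroup (PSU 3 F q)],
    Fintype.card F = q ^ 2 → q % 4 = 1 → R 2 (PSU 3 F q)
  /-- box 2.U3.wr -/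
  psu3_wr : ∀ (F : Type) [Field F] [Fintype F] (q : ℕ) [IsSimpleGroup (PSU 3 F q)],
    Fintype.card F = q ^ 2 → q % 4 = 3 → R 2 (PSU 3 F q)
  /-- box 2.lin4 -/
  psl4 : ∀ (F : Type) [Field F] [Fintype F] [IsSimpleGroup (ProjectiveSpecialLinearGroup (Fin 4) F)],
    Odd (Fintype.card F) → R 2 (ProjectiveSpecialLinearGroup (Fin 4) F)
  /-- box 2.lin4 -/
  psu4 : ∀ (F : Type) [Field F] [Fintype F] (q : ℕ) [IsSimpleGroup (PSU 4 F q)],
    Fintype.card F = q ^ 2 → Odd q → R 2 (PSU 4 F q)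
  /-- box 2.lin5 -/
  psl5 : ∀ (F : Type) [Field F] [Fintype F] (n : ℕ) [IsSimpleGroup (ProjectiveSpecialLinearGroup (Fin n) F)],
    5 ≤ n → Odd (Fintype.card F) → R 2 (ProjectiveSpecialLinearGroup (Fin n) F)
  /-- box 2.lin5 -/
  psu5 : ∀ (F : Type) [Field F] [Fintype F] (n q : ℕ) [IsSimpleGroup (PSU n F q)],
    5 ≤ n → Fintype.card F = q ^ 2 → Odd q → R 2 (PSU n F q)
  /-- box 2.lin5 -/
  psp6 : ∀ (F : Type) [Field F] [Fintype F] (m : ℕ) [IsSimpleGroup (PSp m F)],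
    3 ≤ m → Odd (Fintype.card F) → R 2 (PSp m F)
  /-- box 2.sp4 -/
  psp4 : ∀ (F : Type) [Field F] [Fintype F] [IsSimpleGroup (PSp 2 F)], Odd (Fintype.card F) → R 2 (PSp 2 F)
  /-- box 2.om -/
  oodd : ∀ (F : Type) [Field F] [Fintype F] (m : ℕ) [IsSimpleGroup (POmega F (quadFormOdd m F))],
    3 ≤ m → Odd (Fintype.card F) → R 2 (POmega F (quadFormOdd m F))
  /-- box 2.om -/
  oplus : ∀ (F : Type) [Field F] [Fintype F] (m : ℕ) [IsSimpleGroup (POmega F (quadFormPlus m F))],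
    4 ≤ m → Odd (Fintype.card F) → R 2 (POmega F (quadFormPlus m F))
  /-- box 2.om -/
  ominus : ∀ (F : Type) [Field F] [Fintype F] (m : ℕ) (a b : F) [IsSimpleGroup (POmega F (quadFormMinus (m - 1) F a b))],
    4 ≤ m → (∀ z₁ z₂ : F, z₁ ^ 2 + a * z₁ * z₂ + b * z₂ ^ 2 = 0 → z₁ = 0 ∧ z₂ = 0) → Odd (Fintype.card F) →
    R 2 (POmega F (quadFormMinus (m - 1) F a b))
  /-- box 2.g2 -/
  g2 : ∀ (F : Type) [Field F] [Fintype F] [IsSimpleGroup (Lie.chevG2.group F)], Odd (Fintype.card F) →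
    R 2 (Lie.chevG2.group F)
  /-- box 2.exc -/
  f4 : ∀ (F : Type) [Field F] [Fintype F] [IsSimpleGroup (Lie.chevF4.group F)], Odd (Fintype.card F) →
    R 2 (Lie.chevF4.group F)
  e6 : ∀ (F : Type) [Field F] [Fintype F] [IsSimpleGroup (Lie.chevE6.group F)], Odd (Fintype.card F) →
    R 2 (Lie.chevE6.group F)
  e7 : ∀ (F : Type) [Field F] [Fintype F] [IsSimpleGroup (Lie.chevE7.group F)], Odd (Fintype.card F) →
    R 2 (Lie.chevE7.group F)
  e8 : ∀ (F : Type) [Field F] [Fintype F] [IsSimpleGroup (Lie.chevE8.group F)], Odd (Fintype.card F) →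
    R 2 (Lie.chevE8.group F)
  e6t : ∀ (F : Type) [Field F] [Fintype F] (q : ℕ) [IsSimpleGroup (Lie.twistedE6 F q)], IsPrimePow q →
    Fintype.card F = q ^ 2 → Odd q → R 2 (Lie.twistedE6 F q)
  /-- box 2.d4t -/
  d4t : ∀ (F : Type) [Field F] [Fintype F] (q : ℕ) [IsSimpleGroup (Lie.twistedD4 F q)], IsPrimePow q →
    Fintype.card F = q ^ 3 → Odd q → R 2 (Lie.twistedD4 F q)
  /-- box 2.ree -/
  ree : SpR R 2 fun K => Lie.IsoRee K

/-- `p` odd, groups of Lie type: own characteristic, and cross characteristic with non-abelian `P ∩ S` -/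
structure OddRows (R : ℕ → (K : Type) → [Group K] → Prop) : Prop where
  /-- box o.own -/
  own : ∀ (p : ℕ) [Fact p.Prime], p ≠ 2 → SpR R p fun K => IsLieTypeChar p K
  /-- box o.psl.e2 -/
  psl_e2 : ∀ (p : ℕ) [Fact p.Prime] (F : Type) [Field F] [Fintype F] (n : ℕ)
    [IsSimpleGroup (ProjectiveSpecialLinearGroup (Fin n) F)], p ≠ 2 → 2 ≤ n → ¬ p ∣ Fintype.card F →
    ¬ p ∣ Fintype.card F - 1 → ¬ Ab p (ProjectiveSpecialLinearGroup (Fin n) F) →
    R p (ProjectiveSpecialLinearGroup (Fin n) F)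
  /-- box o.psl.e1 -/
  psl_e1 : ∀ (p : ℕ) [Fact p.Prime] (F : Type) [Field F] [Fintype F] (n : ℕ)
    [IsSimpleGroup (ProjectiveSpecialLinearGroup (Fin n) F)], p ≠ 2 → 2 ≤ n → ¬ p ∣ Fintype.card F →
    p ∣ Fintype.card F - 1 → ¬ p ∣ n → ¬ Ab p (ProjectiveSpecialLinearGroup (Fin n) F) →
    R p (ProjectiveSpecialLinearGroup (Fin n) F)
  /-- box o.diag -/
  psl_diag : ∀ (p : ℕ) [Fact p.Prime] (F : Type) [Field F] [Fintype F] (n : ℕ)
    [IsSimpleGroup (ProjectiveSpecialLinearGroup (Fin n) F)], p ≠ 2 → 2 ≤ n → ¬ p ∣ Fintype.card F →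
    p ∣ Fintype.card F - 1 → p ∣ n → ¬ Ab p (ProjectiveSpecialLinearGroup (Fin n) F) →
    R p (ProjectiveSpecialLinearGroup (Fin n) F)
  /-- box o.psu.e2 -/
  psu_e2 : ∀ (p : ℕ) [Fact p.Prime] (F : Type) [Field F] [Fintype F] (n q : ℕ) [IsSimpleGroup (PSU n F q)], p ≠ 2 →
    3 ≤ n → Fintype.card F = q ^ 2 → ¬ p ∣ q → ¬ p ∣ q + 1 → ¬ Ab p (PSU n F q) → R p (PSU n F q)
  /-- box o.psu.e1 -/
  psu_e1 : ∀ (p : ℕ) [Fact p.Prime] (F : Type) [Field F] [Fintype F] (n q : ℕ) [IsSimpleGroup (PSU n F q)], p ≠ 2 →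
    3 ≤ n → Fintype.card F = q ^ 2 → ¬ p ∣ q → p ∣ q + 1 → ¬ p ∣ n → ¬ Ab p (PSU n F q) → R p (PSU n F q)
  /-- box o.diag -/
  psu_diag : ∀ (p : ℕ) [Fact p.Prime] (F : Type) [Field F] [Fintype F] (n q : ℕ) [IsSimpleGroup (PSU n F q)], p ≠ 2 →
    3 ≤ n → Fintype.card F = q ^ 2 → ¬ p ∣ q → p ∣ q + 1 → p ∣ n → ¬ Ab p (PSU n F q) → R p (PSU n F q)
  /-- box o.psp -/
  psp : ∀ (p : ℕ) [Fact p.Prime] (F : Type) [Field F] [Fintype F] (m : ℕ) [IsSimpleGroup (PSp m F)], p ≠ 2 → 2 ≤ m →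
    ¬ p ∣ Fintype.card F → ¬ Ab p (PSp m F) → R p (PSp m F)
  /-- box o.oodd -/
  oodd : ∀ (p : ℕ) [Fact p.Prime] (F : Type) [Field F] [Fintype F] (m : ℕ)
    [IsSimpleGroup (POmega F (quadFormOdd m F))], p ≠ 2 → 3 ≤ m → Odd (Fintype.card F) → ¬ p ∣ Fintype.card F →
    ¬ Ab p (POmega F (quadFormOdd m F)) → R p (POmega F (quadFormOdd m F))
  /-- box o.oplus -/
  oplus : ∀ (p : ℕ) [Fact p.Prime] (F : Type) [Field F] [Fintype F] (m : ℕ)
    [IsSimpleGroup (POmega F (quadFormPlus m F))], p ≠ 2 → 4 ≤ m → ¬ p ∣ Fintype.card F →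
    ¬ Ab p (POmega F (quadFormPlus m F)) → R p (POmega F (quadFormPlus m F))
  /-- box o.ominus -/
  ominus : ∀ (p : ℕ) [Fact p.Prime] (F : Type) [Field F] [Fintype F] (m : ℕ) (a b : F)
    [IsSimpleGroup (POmega F (quadFormMinus (m - 1) F a b))], p ≠ 2 → 4 ≤ m →
    (∀ z₁ z₂ : F, z₁ ^ 2 + a * z₁ * z₂ + b * z₂ ^ 2 = 0 → z₁ = 0 ∧ z₂ = 0) → ¬ p ∣ Fintype.card F →
    ¬ Ab p (POmega F (quadFormMinus (m - 1) F a b)) → R p (POmega F (quadFormMinus (m - 1) F a b))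
  /-- box o.exc.g2 -/
  g2 : ∀ (p : ℕ) [Fact p.Prime] (F : Type) [Field F] [Fintype F] [IsSimpleGroup (Lie.chevG2.group F)], p ≠ 2 →
    ¬ p ∣ Fintype.card F → ¬ Ab p (Lie.chevG2.group F) → R p (Lie.chevG2.group F)
  /-- box o.exc.f4 -/
  f4 : ∀ (p : ℕ) [Fact p.Prime] (F : Type) [Field F] [Fintype F] [IsSimpleGroup (Lie.chevF4.group F)], p ≠ 2 →
    ¬ p ∣ Fintype.card F → ¬ Ab p (Lie.chevF4.group F) → R p (Lie.chevF4.group F)
  /-- box o.exc.e6 -/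
  e6 : ∀ (p : ℕ) [Fact p.Prime] (F : Type) [Field F] [Fintype F] [IsSimpleGroup (Lie.chevE6.group F)], p ≠ 2 →
    ¬ p ∣ Fintype.card F → ¬ Ab p (Lie.chevE6.group F) → R p (Lie.chevE6.group F)
  /-- box o.exc.e7 -/
  e7 : ∀ (p : ℕ) [Fact p.Prime] (F : Type) [Field F] [Fintype F] [IsSimpleGroup (Lie.chevE7.group F)], p ≠ 2 →
    ¬ p ∣ Fintype.card F → ¬ Ab p (Lie.chevE7.group F) → R p (Lie.chevE7.group F)
  /-- box o.exc.e8 -/
  e8 : ∀ (p : ℕ) [Fact p.Prime] (F : Type) [Field F] [Fintype F] [IsSimpleGroup (Lie.chevE8.group F)], p ≠ 2 →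
    ¬ p ∣ Fintype.card F → ¬ Ab p (Lie.chevE8.group F) → R p (Lie.chevE8.group F)
  /-- box o.exc.e6t -/
  e6t : ∀ (p : ℕ) [Fact p.Prime] (F : Type) [Field F] [Fintype F] (q : ℕ) [IsSimpleGroup (Lie.twistedE6 F q)], p ≠ 2 →
    IsPrimePow q → Fintype.card F = q ^ 2 → ¬ p ∣ q → ¬ Ab p (Lie.twistedE6 F q) → R p (Lie.twistedE6 F q)
  /-- box o.exc.d4t -/
  d4t : ∀ (p : ℕ) [Fact p.Prime] (F : Type) [Field F] [Fintype F] (q : ℕ) [IsSimpleGroup (Lie.twistedD4 F q)], p ≠ 2 →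
    IsPrimePow q → Fintype.card F = q ^ 3 → ¬ p ∣ q → ¬ Ab p (Lie.twistedD4 F q) → R p (Lie.twistedD4 F q)
  /-- box o.exc.f4t -/
  f4t : ∀ (p : ℕ) [Fact p.Prime], p ≠ 2 → SpR R p fun K => Lie.Iso2F4 K ∧ ¬ Ab p K
  /-- box o.ree (Suzuki groups) -/
  sz : ∀ (p : ℕ) [Fact p.Prime], p ≠ 2 → SpR R p fun K => Lie.IsoSuzuki K
  /-- box o.ree (Ree groups) -/
  ree : ∀ (p : ℕ) [Fact p.Prime], p ≠ 2 → p ≠ 3 → SpR R p fun K => Lie.IsoRee K

/-- part (O): `p` odd, cross characteristic, `P ∩ S` abelian -/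
structure OAb (R : ℕ → (K : Type) → [Group K] → Prop) : Prop where
  /-- box f.O.cl -/
  psl : ∀ (p : ℕ) [Fact p.Prime] (F : Type) [Field F] [Fintype F] (n : ℕ)
    [IsSimpleGroup (ProjectiveSpecialLinearGroup (Fin n) F)], p ≠ 2 → 2 ≤ n → ¬ p ∣ Fintype.card F →
    Ab p (ProjectiveSpecialLinearGroup (Fin n) F) → R p (ProjectiveSpecialLinearGroup (Fin n) F)
  psu : ∀ (p : ℕ) [Fact p.Prime] (F : Type) [Field F] [Fintype F] (n q : ℕ) [IsSimpleGroup (PSU n F q)], p ≠ 2 →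
    3 ≤ n → Fintype.card F = q ^ 2 → ¬ p ∣ q → Ab p (PSU n F q) → R p (PSU n F q)
  psp : ∀ (p : ℕ) [Fact p.Prime] (F : Type) [Field F] [Fintype F] (m : ℕ) [IsSimpleGroup (PSp m F)], p ≠ 2 → 2 ≤ m →
    ¬ p ∣ Fintype.card F → Ab p (PSp m F) → R p (PSp m F)
  oodd : ∀ (p : ℕ) [Fact p.Prime] (F : Type) [Field F] [Fintype F] (m : ℕ)
    [IsSimpleGroup (POmega F (quadFormOdd m F))], p ≠ 2 → 3 ≤ m → Odd (Fintype.card F) → ¬ p ∣ Fintype.card F →
    Ab p (POmega F (quadFormOdd m F)) → R p (POmega F (quadFormOdd m F))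
  oplus : ∀ (p : ℕ) [Fact p.Prime] (F : Type) [Field F] [Fintype F] (m : ℕ)
    [IsSimpleGroup (POmega F (quadFormPlus m F))], p ≠ 2 → 4 ≤ m → ¬ p ∣ Fintype.card F →
    Ab p (POmega F (quadFormPlus m F)) → R p (POmega F (quadFormPlus m F))
  ominus : ∀ (p : ℕ) [Fact p.Prime] (F : Type) [Field F] [Fintype F] (m : ℕ) (a b : F)
    [IsSimpleGroup (POmega F (quadFormMinus (m - 1) F a b))], p ≠ 2 → 4 ≤ m →
    (∀ z₁ z₂ : F, z₁ ^ 2 + a * z₁ * z₂ + b * z₂ ^ 2 = 0 → z₁ = 0 ∧ z₂ = 0) → ¬ p ∣ Fintype.card F →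
    Ab p (POmega F (quadFormMinus (m - 1) F a b)) → R p (POmega F (quadFormMinus (m - 1) F a b))
  /-- box f.O.exc -/
  g2 : ∀ (p : ℕ) [Fact p.Prime] (F : Type) [Field F] [Fintype F] [IsSimpleGroup (Lie.chevG2.group F)], p ≠ 2 →
    ¬ p ∣ Fintype.card F → Ab p (Lie.chevG2.group F) → R p (Lie.chevG2.group F)
  f4 : ∀ (p : ℕ) [Fact p.Prime] (F : Type) [Field F] [Fintype F] [IsSimpleGroup (Lie.chevF4.group F)], p ≠ 2 →
    ¬ p ∣ Fintype.card F → Ab p (Lie.chevF4.group F) → R p (Lie.chevF4.group F)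
  e6 : ∀ (p : ℕ) [Fact p.Prime] (F : Type) [Field F] [Fintype F] [IsSimpleGroup (Lie.chevE6.group F)], p ≠ 2 →
    ¬ p ∣ Fintype.card F → Ab p (Lie.chevE6.group F) → R p (Lie.chevE6.group F)
  e7 : ∀ (p : ℕ) [Fact p.Prime] (F : Type) [Field F] [Fintype F] [IsSimpleGroup (Lie.chevE7.group F)], p ≠ 2 →
    ¬ p ∣ Fintype.card F → Ab p (Lie.chevE7.group F) → R p (Lie.chevE7.group F)
  e8 : ∀ (p : ℕ) [Fact p.Prime] (F : Type) [Field F] [Fintype F] [IsSimpleGroup (Lie.chevE8.group F)], p ≠ 2 →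
    ¬ p ∣ Fintype.card F → Ab p (Lie.chevE8.group F) → R p (Lie.chevE8.group F)
  e6t : ∀ (p : ℕ) [Fact p.Prime] (F : Type) [Field F] [Fintype F] (q : ℕ) [IsSimpleGroup (Lie.twistedE6 F q)], p ≠ 2 →
    IsPrimePow q → Fintype.card F = q ^ 2 → ¬ p ∣ q → Ab p (Lie.twistedE6 F q) → R p (Lie.twistedE6 F q)
  d4t : ∀ (p : ℕ) [Fact p.Prime] (F : Type) [Field F] [Fintype F] (q : ℕ) [IsSimpleGroup (Lie.twistedD4 F q)], p ≠ 2 →
    IsPrimePow q → Fintype.card F = q ^ 3 → ¬ p ∣ q → Ab p (Lie.twistedD4 F q) → R p (Lie.twistedD4 F q)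
  f4t : ∀ (p : ℕ) [Fact p.Prime], p ≠ 2 → SpR R p fun K => Lie.Iso2F4 K ∧ Ab p K

/-- the pairs (sporadic group or Tits group, prime) with abelian Sylow `p`-subgroups (box s.rest) -/
def RestPair (p : ℕ) (K : Type) [Group K] : Prop :=
  (Spor.IsoM11 K ∧ p ≠ 2) ∨ (Spor.IsoM12 K ∧ p ≠ 2 ∧ p ≠ 3) ∨ (Spor.IsoM22 K ∧ p ≠ 2) ∨ (Spor.IsoM23 K ∧ p ≠ 2) ∨
  (Spor.IsoM24 K ∧ p ≠ 2 ∧ p ≠ 3) ∨ Spor.IsoJ1 K ∨ (Spor.IsoJ2 K ∧ p ≠ 2 ∧ p ≠ 3) ∨ (Spor.IsoJ3 K ∧ p ≠ 2 ∧ p ≠ 3) ∨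
  (Spor.IsoJ4 K ∧ p ≠ 2 ∧ p ≠ 3 ∧ p ≠ 11) ∨ (Spor.IsoCo1 K ∧ p ≠ 2 ∧ p ≠ 3 ∧ p ≠ 5) ∨
  (Spor.IsoCo2 K ∧ p ≠ 2 ∧ p ≠ 3 ∧ p ≠ 5) ∨ (Spor.IsoCo3 K ∧ p ≠ 2 ∧ p ≠ 3 ∧ p ≠ 5) ∨
  (Spor.IsoMcL K ∧ p ≠ 2 ∧ p ≠ 3 ∧ p ≠ 5) ∨ (Spor.IsoHS K ∧ p ≠ 2 ∧ p ≠ 5) ∨ (Spor.IsoSuz K ∧ p ≠ 2 ∧ p ≠ 3) ∨
  (Spor.IsoHe K ∧ p ≠ 2 ∧ p ≠ 3 ∧ p ≠ 7) ∨ (Spor.IsoRu K ∧ p ≠ 2 ∧ p ≠ 3 ∧ p ≠ 5) ∨ (Spor.IsoON K ∧ p ≠ 2 ∧ p ≠ 7) ∨
  (Spor.IsoLy K ∧ p ≠ 2 ∧ p ≠ 3 ∧ p ≠ 5) ∨ (Spor.IsoFi22 K ∧ p ≠ 2 ∧ p ≠ 3) ∨ (Spor.IsoFi23 K ∧ p ≠ 2 ∧ p ≠ 3) ∨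
  (Spor.IsoFi24' K ∧ p ≠ 2 ∧ p ≠ 3 ∧ p ≠ 7) ∨ (Spor.IsoHN K ∧ p ≠ 2 ∧ p ≠ 3 ∧ p ≠ 5) ∨
  (Spor.IsoTh K ∧ p ≠ 2 ∧ p ≠ 3 ∧ p ≠ 5) ∨ (Spor.IsoB K ∧ p ≠ 2 ∧ p ≠ 3 ∧ p ≠ 5) ∨
  (Spor.IsoM K ∧ p ≠ 2 ∧ p ≠ 3 ∧ p ≠ 5 ∧ p ≠ 7 ∧ p ≠ 13) ∨ (Lie.IsoTits K ∧ p ≠ 2 ∧ p ≠ 3)

/-- the sporadic groups and the Tits group; box `s.X.p` is the field `x_p` -/
structure SporRows (R : ℕ → (K : Type) → [Group K] → Prop) : Prop where
  m11_2 : SpR R 2 fun K => Spor.IsoM11 K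
  m12_2 : SpR R 2 fun K => Spor.IsoM12 K
  m12_3 : SpR R 3 fun K => Spor.IsoM12 K
  m22_2 : SpR R 2 fun K => Spor.IsoM22 K
  m23_2 : SpR R 2 fun K => Spor.IsoM23 K
  m24_2 : SpR R 2 fun K => Spor.IsoM24 K
  m24_3 : SpR R 3 fun K => Spor.IsoM24 K
  j2_2 : SpR R 2 fun K => Spor.IsoJ2 K
  j2_3 : SpR R 3 fun K => Spor.IsoJ2 K
  j3_2 : SpR R 2 fun K => Spor.IsoJ3 K
  j3_3 : SpR R 3 fun K => Spor.IsoJ3 K
  j4_2 : SpR R 2 fun K => Spor.IsoJ4 K
  j4_3 : SpR R 3 fun K => Spor.IsoJ4 K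
  j4_11 : SpR R 11 fun K => Spor.IsoJ4 K
  co1_2 : SpR R 2 fun K => Spor.IsoCo1 K
  co1_3 : SpR R 3 fun K => Spor.IsoCo1 K
  co1_5 : SpR R 5 fun K => Spor.IsoCo1 K
  co2_2 : SpR R 2 fun K => Spor.IsoCo2 K
  co2_3 : SpR R 3 fun K => Spor.IsoCo2 K
  co2_5 : SpR R 5 fun K => Spor.IsoCo2 K
  co3_2 : SpR R 2 fun K => Spor.IsoCo3 K
  co3_3 : SpR R 3 fun K => Spor.IsoCo3 K
  co3_5 : SpR R 5 fun K => Spor.IsoCo3 K
  mcl_2 : SpR R 2 fun K => Spor.IsoMcL K
  mcl_3 : SpR R 3 fun K => Spor.IsoMcL K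
  mcl_5 : SpR R 5 fun K => Spor.IsoMcL K
  hs_2 : SpR R 2 fun K => Spor.IsoHS K
  hs_5 : SpR R 5 fun K => Spor.IsoHS K
  suz_2 : SpR R 2 fun K => Spor.IsoSuz K
  suz_3 : SpR R 3 fun K => Spor.IsoSuz K
  he_2 : SpR R 2 fun K => Spor.IsoHe K
  he_3 : SpR R 3 fun K => Spor.IsoHe K
  he_7 : SpR R 7 fun K => Spor.IsoHe K
  ru_2 : SpR R 2 fun K => Spor.IsoRu K
  ru_3 : SpR R 3 fun K => Spor.IsoRu K
  ru_5 : SpR R 5 fun K => Spor.IsoRu K
  on_2 : SpR R 2 fun K => Spor.IsoON K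
  on_7 : SpR R 7 fun K => Spor.IsoON K
  ly_2 : SpR R 2 fun K => Spor.IsoLy K
  ly_3 : SpR R 3 fun K => Spor.IsoLy K
  ly_5 : SpR R 5 fun K => Spor.IsoLy K
  fi22_2 : SpR R 2 fun K => Spor.IsoFi22 K
  fi22_3 : SpR R 3 fun K => Spor.IsoFi22 K
  fi23_2 : SpR R 2 fun K => Spor.IsoFi23 K
  fi23_3 : SpR R 3 fun K => Spor.IsoFi23 K
  fi24_2 : SpR R 2 fun K => Spor.IsoFi24' K
  fi24_3 : SpR R 3 fun K => Spor.IsoFi24' K
  fi24_7 : SpR R 7 fun K => Spor.IsoFi24' K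
  hn_2 : SpR R 2 fun K => Spor.IsoHN K
  hn_3 : SpR R 3 fun K => Spor.IsoHN K
  hn_5 : SpR R 5 fun K => Spor.IsoHN K
  th_2 : SpR R 2 fun K => Spor.IsoTh K
  th_3 : SpR R 3 fun K => Spor.IsoTh K
  th_5 : SpR R 5 fun K => Spor.IsoTh K
  b_2 : SpR R 2 fun K => Spor.IsoB K
  b_3 : SpR R 3 fun K => Spor.IsoB K
  b_5 : SpR R 5 fun K => Spor.IsoB K
  m_2 : SpR R 2 fun K => Spor.IsoM K
  m_3 : SpR R 3 fun K => Spor.IsoM K
  m_5 : SpR R 5 fun K => Spor.IsoM K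
  m_7 : SpR R 7 fun K => Spor.IsoM K
  m_13 : SpR R 13 fun K => Spor.IsoM K
  tits_2 : SpR R 2 fun K => Lie.IsoTits K
  tits_3 : SpR R 3 fun K => Lie.IsoTits K
  /-- box s.rest -/
  rest : ∀ (p : ℕ) [Fact p.Prime], SpR R p fun K => RestPair p K

/-- all rows -/
structure AllRows (R : ℕ → (K : Type) → [Group K] → Prop) : Prop where
  two : TwoRows R
  odd : OddRows R
  oab : OAb R
  /-- boxes 2.alt, o.alt -/
  alt : ∀ (p : ℕ) [Fact p.Prime] (n : ℕ), 5 ≤ n → R p ↥(alternatingGroup (Fin n))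
  spor : SporRows R

end Cfsg.Agent.H892.HT
end

-- part: H726/HT/Ab
section
set_option linter.all false

/-!
# S4933, box exc.AB (helper726): when are the Sylow `p`-subgroups of the exceptional groups non-abelian?

From `¬ Ab p G`, `p` odd and not dividing `q`:

* `E6(q)`: `p = 3`, or `p = 5 ∣ q - 1`;
* `2E6(q)`: `p = 3`, or `p = 5 ∣ q + 1`;
* `E7(q)`: `p = 3`, or `p = 5 ∣ q ^ 2 - 1`, or `p = 7 ∣ q ^ 2 - 1`;
* `E8(q)`: `p = 3`, or `p = 5`, or `p = 7 ∣ q ^ 2 - 1`;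
* `G2(q)`, `F4(q)`, `3D4(q)`, `2F4(q)`: `p = 3`.
-/

set_option autoImplicit false

open Cfsg Cfsg.Agent.H790.ExcAb

namespace Cfsg.Agent.H726.HT

open Cfsg.Agent.H892.HT (Ab)

theorem ab_of_abP {p : ℕ} {K : Type} [Group K] (h : AbP p K) : Ab p K := fun P => h.sylow P

theorem not_abP {p : ℕ} {K : Type} [Group K] (h : ¬ Ab p K) : ¬ AbP p K := fun h' => h (ab_of_abP h')

/-- an odd prime is `3` or at least `5` -/
theorem three_or_five {p : ℕ} [hp : Fact p.Prime] (h2 : p ≠ 2) : p = 3 ∨ 5 ≤ p := by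
  by_cases h3 : p = 3
  · exact Or.inl h3
  · right
    have := hp.out.two_le
    have h4 : p ≠ 4 := by
      rintro rfl
      exact absurd hp.out (by norm_num)
    omega

/-- an odd prime is `3`, `5` or at least `7` -/
theorem three_five_or_seven {p : ℕ} [hp : Fact p.Prime] (h2 : p ≠ 2) : p = 3 ∨ p = 5 ∨ 7 ≤ p := by
  rcases three_or_five h2 with h | h
  · exact Or.inl h
  · right
    have h6 : p ≠ 6 := by
      rintro rfl
      exact absurd hp.out (by norm_num)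
    omega

section split
variable {p : ℕ} [Fact p.Prime] {F : Type} [Field F] [Fintype F]

theorem g2_cases (h2 : p ≠ 2) (hq : ¬ p ∣ Fintype.card F) (h : ¬ Ab p (Lie.chevG2.group F)) : p = 3 := by
  rcases three_or_five h2 with h3 | h5
  · exact h3
  · exact absurd (G2 rfl hq h5) (not_abP h)

theorem f4_cases (h2 : p ≠ 2) (hq : ¬ p ∣ Fintype.card F) (h : ¬ Ab p (Lie.chevF4.group F)) : p = 3 := by
  rcases three_or_five h2 with h3 | h5
  · exact h3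
  · exact absurd (F4 rfl hq h5) (not_abP h)

theorem e6_cases (h2 : p ≠ 2) (hq : ¬ p ∣ Fintype.card F) (h : ¬ Ab p (Lie.chevE6.group F)) :
    p = 3 ∨ (p = 5 ∧ Fintype.card F % 5 = 1) := by
  rcases three_or_five h2 with h3 | h5
  · exact Or.inl h3
  · by_contra hc
    push Not at hc
    exact not_abP h (E6 rfl hq h5 fun h => hc.2 h)

theorem e7_cases (h2 : p ≠ 2) (hq : ¬ p ∣ Fintype.card F) (h : ¬ Ab p (Lie.chevE7.group F)) :
    p = 3 ∨ (p = 5 ∧ (Fintype.card F % 5 = 1 ∨ Fintype.card F % 5 = 4)) ∨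
      (p = 7 ∧ (Fintype.card F % 7 = 1 ∨ Fintype.card F % 7 = 6)) := by
  rcases three_or_five h2 with h3 | h5
  · exact Or.inl h3
  · by_contra hc
    push Not at hc
    exact not_abP h (E7 rfl hq h5 (fun h => hc.2.1 h) (fun h => hc.2.2 h))

theorem e8_cases (h2 : p ≠ 2) (hq : ¬ p ∣ Fintype.card F) (h : ¬ Ab p (Lie.chevE8.group F)) :
    p = 3 ∨ p = 5 ∨ (p = 7 ∧ (Fintype.card F % 7 = 1 ∨ Fintype.card F % 7 = 6)) := by
  rcases three_five_or_seven h2 with h3 | h5 | h7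
  · exact Or.inl h3
  · exact Or.inr (Or.inl h5)
  · by_contra hc
    push Not at hc
    exact not_abP h (E8 rfl hq h7 (fun h => hc.2.2 h))

end split

section tw
variable {p : ℕ} [Fact p.Prime] {F : Type} [Field F] [Fintype F] {q : ℕ}

theorem e6t_cases (h2 : p ≠ 2) (hq : IsPrimePow q) (hK : Fintype.card F = q ^ 2) (hpq : ¬ p ∣ q)
    (h : ¬ Ab p (Lie.twistedE6 F q)) : p = 3 ∨ (p = 5 ∧ q % 5 = 4) := by
  rcases three_or_five h2 with h3 | h5
  · exact Or.inl h3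
  · by_contra hc
    push Not at hc
    exact not_abP h (tw2E6 hq hK hpq h5 fun h => hc.2 h)

theorem d4t_cases (h2 : p ≠ 2) (hK : Fintype.card F = q ^ 3) (hpq : ¬ p ∣ q) (h : ¬ Ab p (Lie.twistedD4 F q)) :
    p = 3 := by
  rcases three_or_five h2 with h3 | h5
  · exact h3
  · exact absurd (tw3D4 hK hpq h5) (not_abP h)

end tw

/-- the form of the field `f4t` of `OddRows` -/
theorem iso2F4_cases {p : ℕ} [hp : Fact p.Prime] {K : Type} [Group K] (h2 : p ≠ 2) (hK : Lie.Iso2F4 K ∧ ¬ Ab p K) :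
    p = 3 := by
  obtain ⟨⟨F, _, _, m, hm, hF, ⟨e⟩⟩, hab⟩ := hK
  rcases three_or_five h2 with h3 | h5
  · exact h3
  · have hq : ¬ p ∣ 2 ^ (2 * m + 1) := fun h =>
      h2 ((Nat.prime_dvd_prime_iff_eq hp.out Nat.prime_two).1 (hp.out.dvd_of_dvd_pow h))
    exact absurd ((tw2F4 hF hq h5).congr e) (not_abP hab)

end Cfsg.Agent.H726.HT
end

-- part: H720/HT/DD
section
set_option linter.all false
open scoped Cfsg.Agent.FastGrp

/-!
# S4933: subgroups of prime power order of derived length at least 3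

`DD p S`: some `p`-subgroup `Q` of `S` has `Q'' ≠ 1`. The property passes to overgroups and to groups having `S` as
a section, and it makes the second derived subgroup of every Sylow `p`-subgroup nontrivial.
-/

set_option autoImplicit false

namespace Cfsg.Agent.H720.HT

open Subgroup
open scoped commutatorElement

/-- some `p`-subgroup of `S` has nontrivial second derived subgroup -/
def DD (p : ℕ) (S : Type*) [Group S] : Prop :=
  ∃ Q : Subgroup S, IsPGroup p Q ∧ ⁅⁅Q, Q⁆, ⁅Q, Q⁆⁆ ≠ ⊥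

theorem DD.of_mem {p : ℕ} {S : Type*} [Group S] (Q : Subgroup S) (hQ : IsPGroup p Q) {a b c d : S} (ha : a ∈ Q)
    (hb : b ∈ Q) (hc : c ∈ Q) (hd : d ∈ Q) (h : ⁅⁅a, b⁆, ⁅c, d⁆⁆ ≠ 1) : DD p S := by
  refine ⟨Q, hQ, fun h0 => h ?_⟩
  have : ⁅⁅a, b⁆, ⁅c, d⁆⁆ ∈ ⁅⁅Q, Q⁆, ⁅Q, Q⁆⁆ :=
    commutator_mem_commutator (commutator_mem_commutator ha hb) (commutator_mem_commutator hc hd)
  rw [h0] at this
  exact mem_bot.1 this

theorem DD.exists_mem {p : ℕ} {S : Type*} [Group S] (h : DD p S) : ∃ Q : Subgroup S, IsPGroup p Q ∧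
    ¬ ∀ x ∈ ⁅Q, Q⁆, ∀ y ∈ ⁅Q, Q⁆, x * y = y * x := by
  obtain ⟨Q, hQ, hQ2⟩ := h
  refine ⟨Q, hQ, fun hc => hQ2 ?_⟩
  rw [eq_bot_iff, commutator_le]
  intro x hx y hy
  rw [mem_bot, commutatorElement_eq_one_iff_mul_comm]
  exact hc x hx y hy

theorem DD.of_injective {p : ℕ} {T S : Type*} [Group T] [Group S] (h : DD p T) (f : T →* S)
    (hf : Function.Injective f) : DD p S := by
  obtain ⟨Q, hQ, hQ2⟩ := h
  refine ⟨Q.map f, hQ.map f, fun h0 => hQ2 ?_⟩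
  rw [← map_commutator, ← map_commutator] at h0
  exact (map_eq_bot_iff_of_injective _ hf).1 h0

theorem DD.of_subgroup {p : ℕ} {S : Type*} [Group S] {H : Subgroup S} (h : DD p H) : DD p S :=
  h.of_injective H.subtype H.subtype_injective

theorem DD.of_equiv {p : ℕ} {T S : Type*} [Group T] [Group S] (h : DD p T) (e : T ≃* S) : DD p S :=
  h.of_injective e.toMonoidHom e.injective

/-- the property passes from a quotient of a finite group to the group -/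
theorem DD.of_surjective {p : ℕ} [Fact p.Prime] {T S : Type*} [Group T] [Group S] [Finite S] (h : DD p T)
    (f : S →* T) (hf : Function.Surjective f) : DD p S := by
  obtain ⟨Q, hQ, hQ2⟩ := h
  -- a Sylow subgroup of the preimage of `Q` maps onto `Q`
  let R : Subgroup S := Q.comap f
  obtain ⟨P⟩ : Nonempty (Sylow p R) := inferInstance
  let g : R →* Q := (f.comp R.subtype).codRestrict Q (fun x => x.2)
  have hg : Function.Surjective g := by
    rintro ⟨y, hy⟩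
    obtain ⟨x, hx⟩ := hf y
    exact ⟨⟨x, by simpa [R, mem_comap, hx] using hy⟩, Subtype.ext hx⟩
  have hmap : (P : Subgroup R).map g = ⊤ := by
    have hT : Finite T := Finite.of_surjective f hf
    have hidx : ¬ p ∣ ((P : Subgroup R).map g).index := by
      intro hd
      exact P.not_dvd_index (hd.trans (index_map_dvd _ hg))
    have hp : IsPGroup p ((P : Subgroup R).map g) := P.2.map g
    obtain ⟨n, hn⟩ := hQ.exists_card_eq
    have hi : ((P : Subgroup R).map g).index ∣ p ^ n := hn ▸ index_dvd_card _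
    obtain ⟨k, -, hk⟩ := (Nat.dvd_prime_pow Fact.out).1 hi
    rcases Nat.eq_zero_or_pos k with rfl | hk0
    · exact index_eq_one.1 (by simpa using hk)
    · exact absurd (hk ▸ dvd_pow_self p hk0.ne') hidx
  let P' : Subgroup S := (P : Subgroup R).map R.subtype
  have hP' : P'.map f = Q := by
    ext y
    constructor
    · rintro ⟨x, ⟨z, hz, rfl⟩, rfl⟩
      exact z.2
    · intro hy
      obtain ⟨z, hz, hz2⟩ : (⟨y, hy⟩ : Q) ∈ (P : Subgroup R).map g := by rw [hmap]; trivial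
      exact ⟨z, ⟨z, hz, rfl⟩, congrArg Subtype.val hz2⟩
  refine ⟨P', P.2.map _, fun h0 => hQ2 ?_⟩
  rw [← hP', ← map_commutator, ← map_commutator, h0, Subgroup.map_bot]

/-- the property passes from a section of a finite group to the group -/
theorem DD.of_section {p : ℕ} [Fact p.Prime] {T S : Type*} [Group T] [Group S] [Finite S] (h : DD p T)
    (H : Subgroup S) (f : H →* T) (hf : Function.Surjective f) : DD p S :=
  (h.of_surjective f hf).of_subgroup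

/-- `P'' ≠ 1` for every Sylow `p`-subgroup -/
theorem DD.sylow {p : ℕ} [Fact p.Prime] {S : Type*} [Group S] [Finite S] (h : DD p S) (P : Sylow p S) :
    ⁅⁅(P : Subgroup S), (P : Subgroup S)⁆, ⁅(P : Subgroup S), (P : Subgroup S)⁆⁆ ≠ ⊥ := by
  obtain ⟨Q, hQ, hQ2⟩ := h
  obtain ⟨P₁, hP₁⟩ := hQ.exists_le_sylow
  obtain ⟨g, hg⟩ := MulAction.exists_smul_eq S P₁ P
  intro h0
  apply hQ2
  have h1 : ⁅⁅(P₁ : Subgroup S), (P₁ : Subgroup S)⁆, ⁅(P₁ : Subgroup S), (P₁ : Subgroup S)⁆⁆ = ⊥ := by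
    have e : (P : Subgroup S) = (P₁ : Subgroup S).map (MulAut.conj g).toMonoidHom := by
      rw [← hg]; rfl
    rw [e, ← map_commutator, ← map_commutator] at h0
    exact (map_eq_bot_iff_of_injective _ (MulAut.conj g).injective).1 h0
  rw [eq_bot_iff, ← h1]
  exact commutator_mono (commutator_mono hP₁ hP₁) (commutator_mono hP₁ hP₁)

/-- `P'' ≠ 1` for every Sylow `p`-subgroup, in the derived series form -/
theorem DD.derived {p : ℕ} [Fact p.Prime] {S : Type*} [Group S] [Finite S] (h : DD p S) (P : Sylow p S) :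
    derivedSeries ↥(P : Subgroup S) 2 ≠ ⊥ := by
  intro h0
  apply h.sylow P
  have h1 := congrArg (Subgroup.map (P : Subgroup S).subtype) h0
  rw [Subgroup.map_bot] at h1
  have e1 : derivedSeries ↥(P : Subgroup S) 2 =
      ⁅⁅(⊤ : Subgroup ↥(P : Subgroup S)), ⊤⁆, ⁅(⊤ : Subgroup ↥(P : Subgroup S)), ⊤⁆⁆ := rfl
  rw [e1, map_commutator, map_commutator, ← MonoidHom.range_eq_map, range_subtype] at h1
  exact h1

/-- permutations preserving a chain of partitions in which every class splits into at most two classes -/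
theorem levels {n : ℕ} (m : ℕ) (c : ℕ → Fin n → ℕ) (h0 : ∀ x y, c 0 x = c 0 y) (hm : ∀ x y, c m x = c m y → x = y)
    (h2 : ∀ i < m, ∀ x y z, c i x = c i y → c i y = c i z →
      c (i + 1) x = c (i + 1) y ∨ c (i + 1) y = c (i + 1) z ∨ c (i + 1) x = c (i + 1) z)
    (s : Equiv.Perm (Fin n)) (hs : ∀ i ≤ m, ∀ x y, c i x = c i y ↔ c i (s x) = c i (s y)) : s ^ 2 ^ m = 1 := by
  have key : ∀ k ≤ m, ∀ x, c k ((s ^ 2 ^ k) x) = c k x := by
    intro k
    induction k with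
    | zero => intro _ x; exact h0 _ _
    | succ k ih =>
      intro hk x
      have hpow : ∀ j : ℕ, ∀ x y, c (k + 1) x = c (k + 1) y ↔ c (k + 1) ((s ^ j) x) = c (k + 1) ((s ^ j) y) := by
        intro j
        induction j with
        | zero => intro x y; simp
        | succ j ihj =>
          intro x y
          rw [pow_succ, Equiv.Perm.mul_apply, Equiv.Perm.mul_apply, ← ihj, ← hs (k + 1) hk]
      set t := s ^ 2 ^ k with ht
      have e : s ^ 2 ^ (k + 1) = t * t := by rw [ht, ← pow_add, pow_succ, mul_two]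
      rw [e, Equiv.Perm.mul_apply]
      have a1 := ih (by omega) x
      have a2 := ih (by omega) (t x)
      rcases h2 k (by omega) x (t x) (t (t x)) a1.symm a2.symm with h | h | h
      · have := (hpow (2 ^ k) _ _).1 h
        rw [← ht] at this
        exact (h.trans this).symm
      · have := (hpow (2 ^ k) _ _).2 h
        exact (this.trans h).symm
      · exact h.symm
  ext x
  have := hm _ _ (key m le_rfl x)
  simp [this]

/-- the group of all permutations preserving the levels is a `2`-group -/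
def levelGroup {n : ℕ} (m : ℕ) (c : ℕ → Fin n → ℕ) : Subgroup (Equiv.Perm (Fin n)) where
  carrier := {s | ∀ i ≤ m, ∀ x y, c i x = c i y ↔ c i (s x) = c i (s y)}
  one_mem' := by intro i _ x y; simp
  mul_mem' := by
    intro s t hs ht i hi x y
    rw [Equiv.Perm.mul_apply, Equiv.Perm.mul_apply, ht i hi, hs i hi]
  inv_mem' := by
    intro s hs i hi x y
    rw [hs i hi (s⁻¹ x) (s⁻¹ y)]
    simp

theorem isPGroup_levelGroup {n : ℕ} (m : ℕ) (c : ℕ → Fin n → ℕ) (h0 : ∀ x y, c 0 x = c 0 y)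
    (hm : ∀ x y, c m x = c m y → x = y)
    (h2 : ∀ i < m, ∀ x y z, c i x = c i y → c i y = c i z →
      c (i + 1) x = c (i + 1) y ∨ c (i + 1) y = c (i + 1) z ∨ c (i + 1) x = c (i + 1) z) :
    IsPGroup 2 (levelGroup m c) := by
  intro s
  exact ⟨m, Subtype.ext (levels m c h0 hm h2 s.1 s.2)⟩

/-! ## Alternating and symmetric groups -/

/-- levels on `8` points -/
def c8 (i : ℕ) (x : Fin 8) : ℕ := x.1 / 2 ^ (3 - i)

theorem dd_perm8 : DD 2 (Equiv.Perm (Fin 8)) := by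
  refine DD.of_mem (levelGroup 3 c8) (isPGroup_levelGroup 3 c8 (by decide +kernel) (by decide +kernel)
    (by decide +kernel))
    (a := Equiv.swap (0 : Fin 8) 4 * Equiv.swap (1 : Fin 8) 5 * Equiv.swap (2 : Fin 8) 6 * Equiv.swap (3 : Fin 8) 7) (b := Equiv.swap (0 : Fin 8) 1)
    (c := Equiv.swap (0 : Fin 8) 4 * Equiv.swap (1 : Fin 8) 5 * Equiv.swap (2 : Fin 8) 6 * Equiv.swap (3 : Fin 8) 7)
    (d := Equiv.swap (0 : Fin 8) 2 * Equiv.swap (1 : Fin 8) 3) ?_ ?_ ?_ ?_ (by decide +kernel)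
  · show ∀ i ≤ 3, ∀ x y, c8 i x = c8 i y ↔ _
    decide +kernel
  · show ∀ i ≤ 3, ∀ x y, c8 i x = c8 i y ↔ _
    decide +kernel
  · show ∀ i ≤ 3, ∀ x y, c8 i x = c8 i y ↔ _
    decide +kernel
  · show ∀ i ≤ 3, ∀ x y, c8 i x = c8 i y ↔ _
    decide +kernel

/-- levels on `10` points -/
def c10 (i : ℕ) (x : Fin 10) : ℕ :=
  (((![![0, 0, 0, 0, 0, 0, 0, 0, 0, 0], ![0, 0, 0, 0, 0, 0, 0, 0, 1, 1], ![0, 0, 0, 0, 1, 1, 1, 1, 2, 3],
    ![0, 0, 1, 1, 2, 2, 3, 3, 4, 5], ![0, 1, 2, 3, 4, 5, 6, 7, 8, 9]] : Fin 5 → Fin 10 → ℕ)) (Fin.ofNat 5 i)) x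

theorem dd_alt10 : DD 2 (alternatingGroup (Fin 10)) := by
  have hp : IsPGroup 2 (levelGroup 4 c10) := isPGroup_levelGroup 4 c10 (by decide +kernel) (by decide +kernel)
    (by decide +kernel)
  refine DD.of_mem ((levelGroup 4 c10).comap (alternatingGroup (Fin 10)).subtype)
    (hp.comap_of_injective _ (alternatingGroup (Fin 10)).subtype_injective)
    (a := ⟨Equiv.swap (0 : Fin 10) 4 * Equiv.swap (1 : Fin 10) 5 * Equiv.swap (2 : Fin 10) 6 * Equiv.swap (3 : Fin 10) 7, by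
      rw [Equiv.Perm.mem_alternatingGroup]; decide +kernel⟩)
    (b := ⟨Equiv.swap (0 : Fin 10) 1 * Equiv.swap (8 : Fin 10) 9, by rw [Equiv.Perm.mem_alternatingGroup]; decide +kernel⟩)
    (c := ⟨Equiv.swap (0 : Fin 10) 4 * Equiv.swap (1 : Fin 10) 5 * Equiv.swap (2 : Fin 10) 6 * Equiv.swap (3 : Fin 10) 7, by
      rw [Equiv.Perm.mem_alternatingGroup]; decide +kernel⟩)
    (d := ⟨Equiv.swap (0 : Fin 10) 2 * Equiv.swap (1 : Fin 10) 3, by rw [Equiv.Perm.mem_alternatingGroup]; decide +kernel⟩)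
    ?_ ?_ ?_ ?_ ?_
  · show ∀ i ≤ 4, ∀ x y, c10 i x = c10 i y ↔ _
    decide +kernel
  · show ∀ i ≤ 4, ∀ x y, c10 i x = c10 i y ↔ _
    decide +kernel
  · show ∀ i ≤ 4, ∀ x y, c10 i x = c10 i y ↔ _
    decide +kernel
  · show ∀ i ≤ 4, ∀ x y, c10 i x = c10 i y ↔ _
    decide +kernel
  · intro h
    have := congrArg Subtype.val h
    revert this
    decide +kernel

theorem dd_perm {n : ℕ} (hn : 8 ≤ n) : DD 2 (Equiv.Perm (Fin n)) :=
  dd_perm8.of_injective (Equiv.Perm.viaEmbeddingHom (Fin.castLEEmb hn)) (Equiv.Perm.viaEmbeddingHom_injective _)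

theorem dd_alt {n : ℕ} (hn : 10 ≤ n) : DD 2 (alternatingGroup (Fin n)) := by
  classical
  let f : alternatingGroup (Fin 10) →* Equiv.Perm (Fin n) :=
    (Equiv.Perm.viaEmbeddingHom (Fin.castLEEmb hn)).comp (alternatingGroup (Fin 10)).subtype
  have hf : Function.Injective f :=
    (Equiv.Perm.viaEmbeddingHom_injective _).comp (alternatingGroup (Fin 10)).subtype_injective
  have hr : ∀ x, f x ∈ alternatingGroup (Fin n) := by
    have h1 : (commutator (Equiv.Perm (Fin 10))) = alternatingGroup (Fin 10) :=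
      alternatingGroup.commutator_perm_eq (by simp)
    intro x
    have hx : (x : Equiv.Perm (Fin 10)) ∈ commutator (Equiv.Perm (Fin 10)) := by rw [h1]; exact x.2
    have h2 : (commutator (Equiv.Perm (Fin 10))).map (Equiv.Perm.viaEmbeddingHom (Fin.castLEEmb hn)) ≤
        commutator (Equiv.Perm (Fin n)) := by
      rw [commutator_def, commutator_def, map_commutator]
      exact commutator_mono le_top le_top
    exact alternatingGroup.commutator_perm_le (h2 (mem_map_of_mem _ hx))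
  exact dd_alt10.of_injective (f.codRestrict _ hr) (fun x y h => hf (congrArg Subtype.val h))

end Cfsg.Agent.H720.HT
end

-- part: H483/HT/V1
section
set_option linter.all false
open scoped Cfsg.Agent.FastGrp

/-!
# S4933, vacuous rows (helper483): `NV p G` = `G` has a `p`-subgroup that is not metabelian

Inherited by overgroups, by extensions (sections); `NV p G` excludes `cd(P) = {1, p ^ a}`.
-/

set_option autoImplicit false

namespace Cfsg.Agent.H483.HT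

open Cfsg Subgroup
open scoped commutatorElement Pointwise

/-- `G` has a `p`-subgroup which is not metabelian -/
def NV (p : ℕ) (G : Type*) [Group G] : Prop :=
  ∃ Q : Subgroup G, IsPGroup p Q ∧ ∃ x ∈ Q, ∃ y ∈ Q, ∃ z ∈ Q, ∃ w ∈ Q, ⁅⁅x, y⁆, ⁅z, w⁆⁆ ≠ 1

/-- overgroups -/
theorem NV.of_injective {p : ℕ} {H G : Type*} [Group H] [Group G] (f : H →* G)
    (hf : Function.Injective f) (h : NV p H) : NV p G := by
  obtain ⟨Q, hQ, x, hx, y, hy, z, hz, w, hw, hne⟩ := h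
  refine ⟨Q.map f, hQ.map f, f x, mem_map_of_mem f hx, f y, mem_map_of_mem f hy, f z,
    mem_map_of_mem f hz, f w, mem_map_of_mem f hw, fun h => hne (hf ?_)⟩
  rw [map_one, ← h]
  simp only [map_commutatorElement]

theorem NV.of_subgroup {p : ℕ} {G : Type*} [Group G] {H : Subgroup G} (h : NV p H) : NV p G :=
  h.of_injective H.subtype H.subtype_injective

theorem NV.of_le {p : ℕ} {G : Type*} [Group G] {H K : Subgroup G} (hHK : H ≤ K) (h : NV p H) : NV p K :=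
  h.of_injective (inclusion hHK) (inclusion_injective hHK)

theorem NV.congr {p : ℕ} {H G : Type*} [Group H] [Group G] (e : H ≃* G) (h : NV p H) : NV p G :=
  h.of_injective e.toMonoidHom e.injective

/-- extensions -/
theorem NV.of_surjective {p : ℕ} [hp : Fact p.Prime] {G K : Type*} [Group G] [Finite G] [Group K]
    (f : G →* K) (hf : Function.Surjective f) (h : NV p K) : NV p G := by
  have : Finite K := Finite.of_surjective f hf
  obtain ⟨Q, hQ, x, hx, y, hy, z, hz, w, hw, hne⟩ := h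
  obtain ⟨P', hP'⟩ := hQ.exists_le_sylow
  obtain ⟨P, rfl⟩ := Sylow.mapSurjective_surjective hf p P'
  have key : ∀ g : K, g ∈ Q → ∃ g' ∈ (P : Subgroup G), f g' = g := by
    intro g hg
    have := hP' hg
    rw [Sylow.coe_mapSurjective] at this
    exact mem_map.1 this
  obtain ⟨x', hx', rfl⟩ := key x hx
  obtain ⟨y', hy', rfl⟩ := key y hy
  obtain ⟨z', hz', rfl⟩ := key z hz
  obtain ⟨w', hw', rfl⟩ := key w hw
  refine ⟨P, P.2, x', hx', y', hy', z', hz', w', hw', fun h => hne ?_⟩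
  have h' := congrArg f h
  rw [map_one] at h'
  rw [← h']
  simp only [map_commutatorElement]

/-- quotients of subgroups -/
theorem NV.of_section {p : ℕ} [hp : Fact p.Prime] {G K : Type*} [Group G] [Finite G] [Group K]
    (H : Subgroup G) (f : H →* K) (hf : Function.Surjective f) (h : NV p K) : NV p G :=
  (h.of_surjective f hf).of_subgroup

/-- in a group with `NV p`, the Sylow `p`-subgroups are not metabelian -/
theorem NV.sylow {p : ℕ} [hp : Fact p.Prime] {G : Type*} [Group G] [Finite G] (h : NV p G) (P : Sylow p G) :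
    ∃ x ∈ P, ∃ y ∈ P, ∃ z ∈ P, ∃ w ∈ P, ⁅⁅x, y⁆, ⁅z, w⁆⁆ ≠ 1 := by
  obtain ⟨Q, hQ, x, hx, y, hy, z, hz, w, hw, hne⟩ := h
  obtain ⟨P', hP'⟩ := hQ.exists_le_sylow
  obtain ⟨g, hg⟩ := MulAction.exists_smul_eq G P' P
  have key : ∀ t : G, t ∈ Q → g * t * g⁻¹ ∈ P := by
    intro t ht
    have h1 : MulAut.conj g • t ∈ MulAut.conj g • (P' : Subgroup G) :=
      Subgroup.smul_mem_pointwise_smul t (MulAut.conj g) _ (hP' ht)
    rw [← hg]
    exact h1
  refine ⟨_, key x hx, _, key y hy, _, key z hz, _, key w hw, fun h => hne ?_⟩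
  have h2 : MulAut.conj g ⁅⁅x, y⁆, ⁅z, w⁆⁆ = 1 := by
    simp only [map_commutatorElement, MulAut.conj_apply]
    exact h
  exact (MulAut.conj g).injective (h2.trans (map_one _).symm)

/-- **`NV p G` excludes `cd(P) = {1, m}`** -/
theorem NV.vacuous {p : ℕ} [hp : Fact p.Prime] {G : Type*} [Group G] [Finite G] (h : NV p G) (P : Sylow p G)
    {m : ℕ} (hm : m ≠ 1)
    (hcd : ∀ φ : IrrCharacter ↥P, charDegree (φ : ↥P → ℂ) = 1 ∨ charDegree (φ : ↥P → ℂ) = m)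
    (hex : ∃ φ : IrrCharacter ↥P, charDegree (φ : ↥P → ℂ) = m) : False := by
  obtain ⟨x, hx, y, hy, z, hz, w, hw, hne⟩ := h.sylow P
  apply hne
  have hA := S4458.result (G := ↥P) m hcd hex hm
  have h1 := hA _ (commutator_mem_commutator (mem_top (⟨x, hx⟩ : ↥P)) (mem_top (⟨y, hy⟩ : ↥P))) _
    (commutator_mem_commutator (mem_top (⟨z, hz⟩ : ↥P)) (mem_top (⟨w, hw⟩ : ↥P)))
  exact commutatorElement_eq_one_iff_mul_comm.2 (congrArg Subtype.val h1)

/-- the form of the statement -/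
theorem NV.vacuous' {p : ℕ} [hp : Fact p.Prime] {G : Type*} [Group G] [Finite G] (h : NV p G) (P : Sylow p G)
    {a : ℕ} (ha : 0 < a)
    (hcd : ∀ φ : IrrCharacter ↥P, charDegree (φ : ↥P → ℂ) = 1 ∨ charDegree (φ : ↥P → ℂ) = p ^ a)
    (hex : ∃ φ : IrrCharacter ↥P, charDegree (φ : ↥P → ℂ) = p ^ a) : False :=
  h.vacuous P (Nat.one_lt_pow ha.ne' hp.out.one_lt).ne' hcd hex

end Cfsg.Agent.H483.HT
end

-- part: H681/IP/Row
section
set_option linter.all false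
open scoped Cfsg.Agent.FastGrp

/-!
# Vacuous rows of S4933 (helper681)

* `row_of_derived` (V1) : `Row p S` when a `p`-subgroup of `S` has a section whose derived subgroup is not abelian;
* `row_two` : `Row 2 S` when `S` has a `2`-subgroup of class `≥ 3` and a `2`-subgroup containing two commuting
  nonabelian pairs (`IPTwo` = the theorem of Isaacs and Passman);
* `row_two_hom` : the same for embedded `2`-groups;
* `class_three_of_swap` : `⁅⁅x, t⁆, y⁆ ≠ 1` when `t` moves `⟨x, y⟩` to a subgroup commuting with it.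
-/

set_option autoImplicit false

namespace Cfsg.Agent.H681.IP

open Cfsg Subgroup Cfsg.Agent.H316.HT
open scoped commutatorElement

universe u v w

theorem TD.of_CD {p a : ℕ} {P : Type u} [Group P] (h : CD p a P) : TD p a P := h.1

/-- **V1.** -/
theorem row_of_derived {p : ℕ} (hp : p.Prime) {S : Type v} [Group S] {X : Type w} [Group X] (f : X →* S)
    (hf : Function.Injective f) (hX : IsPGroup p X) {Q : Type u} [Group Q] (g : X →* Q)
    (hg : Function.Surjective g) {x y z t : Q} (h : ¬ Commute ⁅x, y⁆ ⁅z, t⁆) : Row p S := by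
  intro A _ _ N _ ⟨e⟩ _ M _ P a _ hcd
  exfalso
  have : Fact p.Prime := ⟨hp⟩
  obtain ⟨i, hi⟩ := exists_hom P (N.subtype.comp (e.symm.toMonoidHom.comp f))
    (fun a b hab => hf (e.symm.injective (Subtype.val_injective hab))) hX
  exact h ((TD.of_CD hcd).comm_comm_section i hi g hg x y z t)

/-- V1 for elements of a `p`-subgroup -/
theorem row_of_derived_mem {p : ℕ} (hp : p.Prime) {S : Type v} [Group S] (X : Subgroup S) (hX : IsPGroup p X)
    {x y z t : S} (hx : x ∈ X) (hy : y ∈ X) (hz : z ∈ X) (ht : t ∈ X) (h : ¬ Commute ⁅x, y⁆ ⁅z, t⁆) : Row p S := by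
  refine row_of_derived hp X.subtype X.subtype_injective hX (MonoidHom.id X) Function.surjective_id
    (x := ⟨x, hx⟩) (y := ⟨y, hy⟩) (z := ⟨z, hz⟩) (t := ⟨t, ht⟩) fun hc => h ?_
  have h1 := congrArg Subtype.val hc.eq
  exact h1

/-- **The vacuous rows for `p = 2`**, embedded `2`-groups -/
theorem row_two_hom (hIP : IPTwo) {S : Type v} [Group S] {X : Type w} [Group X] (f : X →* S)
    (hf : Function.Injective f) (hX : IsPGroup 2 X) {x y z : X} (hc : ⁅⁅x, y⁆, z⁆ ≠ 1) {Y : Type u} [Group Y]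
    (g : Y →* S) (hg : Function.Injective g) (hY : IsPGroup 2 Y) {x₁ y₁ x₂ y₂ : Y} (h1 : x₁ * y₁ ≠ y₁ * x₁)
    (h2 : x₂ * y₂ ≠ y₂ * x₂) (c1 : Commute x₁ x₂) (c2 : Commute x₁ y₂) (c3 : Commute y₁ x₂)
    (c4 : Commute y₁ y₂) : Row 2 S := by
  intro A _ _ N _ ⟨e⟩ _ M _ P a _ hcd
  exfalso
  have : Fact (Nat.Prime 2) := ⟨Nat.prime_two⟩
  obtain ⟨i, hi⟩ := exists_hom P (N.subtype.comp (e.symm.toMonoidHom.comp f))
    (fun a b hab => hf (e.symm.injective (Subtype.val_injective hab))) hX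
  obtain ⟨j, hj⟩ := exists_hom P (N.subtype.comp (e.symm.toMonoidHom.comp g))
    (fun a b hab => hg (e.symm.injective (Subtype.val_injective hab))) hY
  have hTD := TD.of_CD hcd
  refine hTD.vac_two P.isPGroup' (fun ha => hIP _ P.isPGroup' a ha hTD) (x := i x) (y := i y) (z := i z)
    (fun h => hc (hi ?_)) (x₁ := j x₁) (y₁ := j y₁) (x₂ := j x₂) (y₂ := j y₂) (fun h => h1 (hj ?_))
    (fun h => h2 (hj ?_)) (c1.map j) (c2.map j) (c3.map j) (c4.map j)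
  · rw [map_commutatorElement, map_commutatorElement, map_one]
    exact h
  · rw [map_mul, map_mul]
    exact h
  · rw [map_mul, map_mul]
    exact h

/-- **The vacuous rows for `p = 2`** -/
theorem row_two (hIP : IPTwo) {S : Type v} [Group S] (X : Subgroup S) (hX : IsPGroup 2 X) {x y z : S}
    (hx : x ∈ X) (hy : y ∈ X) (hz : z ∈ X) (hc : ⁅⁅x, y⁆, z⁆ ≠ 1) (Y : Subgroup S) (hY : IsPGroup 2 Y)
    {x₁ y₁ x₂ y₂ : S} (m1 : x₁ ∈ Y) (m2 : y₁ ∈ Y) (m3 : x₂ ∈ Y) (m4 : y₂ ∈ Y) (h1 : x₁ * y₁ ≠ y₁ * x₁)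
    (h2 : x₂ * y₂ ≠ y₂ * x₂) (c1 : Commute x₁ x₂) (c2 : Commute x₁ y₂) (c3 : Commute y₁ x₂)
    (c4 : Commute y₁ y₂) : Row 2 S :=
  row_two_hom hIP X.subtype X.subtype_injective hX (x := ⟨x, hx⟩) (y := ⟨y, hy⟩) (z := ⟨z, hz⟩)
    (fun h => hc (congrArg Subtype.val h)) Y.subtype Y.subtype_injective hY (x₁ := ⟨x₁, m1⟩) (y₁ := ⟨y₁, m2⟩)
    (x₂ := ⟨x₂, m3⟩) (y₂ := ⟨y₂, m4⟩) (fun h => h1 (congrArg Subtype.val h))
    (fun h => h2 (congrArg Subtype.val h)) (Subtype.ext c1.eq) (Subtype.ext c2.eq) (Subtype.ext c3.eq)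
    (Subtype.ext c4.eq)

/-- `⟨x, y⟩` and its conjugate by `t` commute: `⟨x, y, t⟩` has class at least three -/
theorem class_three_of_swap {S : Type v} [Group S] {x y t : S} (h : x * y ≠ y * x)
    (h1 : Commute (t * x * t⁻¹) x) (h2 : Commute (t * x * t⁻¹) y) : ⁅⁅x, t⁆, y⁆ ≠ 1 := by
  intro h3
  apply h
  have h4 := commutatorElement_eq_one_iff_commute.1 h3
  have h5 : ⁅x, t⁆ = x * (t * x * t⁻¹)⁻¹ := by
    rw [commutatorElement_def]
    group
  rw [h5] at h4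
  have h6 : x = x * (t * x * t⁻¹)⁻¹ * (t * x * t⁻¹) := by group
  rw [h6]
  exact (h4.mul_left h2).eq

/-- **Two commuting nonabelian `2`-subgroups exchanged by a `2`-element** : `X` a `2`-subgroup containing `x`, `y`, `t`. -/
theorem row_two_swap (hIP : IPTwo) {S : Type v} [Group S] (X : Subgroup S) (hX : IsPGroup 2 X) {x y t : S}
    (hx : x ∈ X) (hy : y ∈ X) (ht : t ∈ X) (h : x * y ≠ y * x) (c1 : Commute x (t * x * t⁻¹))
    (c2 : Commute x (t * y * t⁻¹)) (c3 : Commute y (t * x * t⁻¹)) (c4 : Commute y (t * y * t⁻¹)) : Row 2 S := by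
  refine row_two hIP X hX hx ht hy (class_three_of_swap h c1.symm c3.symm) X hX hx hy
    (X.mul_mem (X.mul_mem ht hx) (X.inv_mem ht)) (X.mul_mem (X.mul_mem ht hy) (X.inv_mem ht)) h ?_ c1 c2 c3 c4
  intro h3
  apply h
  have h4 : t * (x * y) * t⁻¹ = t * (y * x) * t⁻¹ := by
    have e1 : t * (x * y) * t⁻¹ = t * x * t⁻¹ * (t * y * t⁻¹) := by group
    have e2 : t * (y * x) * t⁻¹ = t * y * t⁻¹ * (t * x * t⁻¹) := by group
    rw [e1, e2, h3]
  exact mul_left_cancel (mul_right_cancel h4)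

end Cfsg.Agent.H681.IP
end
end
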